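import Cfsg.Agent.H600.RIM.ExcDefs
import Cfsg.Agent.H337.RIM.A6Char
import Cfsg.Agent.Classification.Order360Iso

/-!
# S4816, case B, components `A6`, `p = 5`: the four characters and the group of index two (helper337)
-/

set_option autoImplicit false

namespace Cfsg.Agent.H337.RIM

open Cfsg Subgroup Equiv Cfsg.Agent.H622.Over Cfsg.Agent.LFourA.AltPsiAut Cfsg.Agent.H600.RIM.Exc

universe u

/-- an endomorphism of a perfect group which is trivial modulo the center is trivial -/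
theorem eq_self_of_perfect {E : Type*} [Group E] (hE : commutator E = ⊤) (α : E →* E)
    (h : ∀ y, y⁻¹ * α y ∈ center E) (y : E) : α y = y := by
  let f : E →* center E :=
    { toFun := fun y => ⟨y⁻¹ * α y, h y⟩
      map_one' := Subtype.ext (by simp)
      map_mul' := fun a b => Subtype.ext (by
        have h1 := mem_center_iff.1 (h a) b⁻¹
        change (a * b)⁻¹ * α (a * b) = a⁻¹ * α a * (b⁻¹ * α b)
        rw [map_mul, mul_inv_rev, mul_assoc b⁻¹, ← mul_assoc a⁻¹, ← mul_assoc b⁻¹, h1]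
        simp only [mul_assoc]) }
  have h1 : commutator E ≤ f.ker := by
    rw [commutator_def, Subgroup.commutator_le]
    intro a _ b _
    rw [MonoidHom.mem_ker, map_commutatorElement, commutatorElement_eq_one_iff_mul_comm]
    exact Subtype.ext (mem_center_iff.1 (f b).2 _)
  rw [hE] at h1
  have h2 : f y = 1 := h1 (mem_top y)
  have h3 : y⁻¹ * α y = 1 := congrArg Subtype.val h2
  exact (inv_mul_eq_one.1 h3).symm

theorem partA6 : PartA6.{u} := by
  intro G _ _ Z l E T hZ hl hET hT hE hZE hsimp hcard h6 _ _ hconj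
  classical
  -- the isomorphism with `A₆`
  obtain ⟨q⟩ : Nonempty ((E ⧸ center E) ≃* alternatingGroup (Fin 6)) :=
    Classification.Order360Iso.nonempty_mulEquiv_alternating hcard
  obtain ⟨π, hπq⟩ : ∃ π : E →* alternatingGroup (Fin 6), π = q.toMonoidHom.comp (QuotientGroup.mk' (center E)) :=
    ⟨_, rfl⟩
  have hπ : Function.Surjective π := by
    rw [hπq]
    exact q.surjective.comp (QuotientGroup.mk'_surjective _)
  have hk : π.ker = center E := by
    ext x
    rw [hπq, MonoidHom.mem_ker]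
    change q (QuotientGroup.mk' (center E) x) = 1 ↔ _
    rw [map_eq_one_iff q q.injective, QuotientGroup.mk'_apply, QuotientGroup.eq_one_iff]
  have hk1 : ∀ x, π x = 1 ↔ x ∈ center E := fun x => by rw [← hk, MonoidHom.mem_ker]
  -- the character of the center
  let c : center E →* ℂˣ :=
    { toFun := fun z => l ⟨((z : E) : G), (hZE z).1 z.2⟩
      map_one' := by rw [← map_one l]; rfl
      map_mul' := fun a b => by rw [← map_mul]; rfl }
  have hcdef : ∀ z : center E, c z = l ⟨((z : E) : G), (hZE z).1 z.2⟩ := fun _ => rfl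
  have hc : Function.Injective c := by
    intro a b h
    rw [hcdef, hcdef] at h
    have h1 := congrArg Subtype.val (hl h)
    exact Subtype.ext (Subtype.ext h1)
  have hI : ∀ ψ : E → ℂ, IrrO Z l E ψ ↔ IsIrrCharacter E ψ ∧ Lies (center E) c ψ := by
    intro ψ
    constructor
    · rintro ⟨h1, h2⟩
      refine ⟨h1, ?_⟩
      obtain ⟨c', hc'⟩ := exists_hom (le_refl (center E)) h1
      intro x n
      have h3 := h2 ((n : E) : G) (n : E).2 ((hZE n).1 n.2)
      have h4 := hc' 1 n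
      rw [one_mul] at h4
      have h5 : ψ n = ψ 1 * (c n : ℂ) := h3
      rw [h4] at h5
      rw [hc' x n, mul_left_cancel₀ (Characters.Core.isIrr_apply_one_ne_zero h1) h5]
    · rintro ⟨h1, h2⟩
      refine ⟨h1, fun x hx hz => ?_⟩
      have h3 := h2 1 ⟨⟨x, hx⟩, (hZE ⟨x, hx⟩).2 hz⟩
      rw [one_mul] at h3
      exact h3
  -- conjugation
  let ad : T → MulAut E := fun g =>
    { toFun := fun x => ⟨(g : G) * x * (g : G)⁻¹, hT g g.2 x x.2⟩
      invFun := fun x => ⟨(g : G)⁻¹ * x * g, by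
        have := hT (g : G)⁻¹ (T.inv_mem g.2) x x.2
        rwa [inv_inv] at this⟩
      left_inv := fun x => Subtype.ext (by simp only [mul_assoc, inv_mul_cancel, mul_one, inv_mul_cancel_left])
      right_inv := fun x => Subtype.ext (by simp only [mul_assoc, mul_inv_cancel, mul_one, mul_inv_cancel_left])
      map_mul' := fun x y => Subtype.ext (by
        change (g : G) * (x * y) * (g : G)⁻¹ = (g : G) * x * (g : G)⁻¹ * ((g : G) * y * (g : G)⁻¹)
        simp only [mul_assoc, inv_mul_cancel_left]) }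
  have had : ∀ (g : T) (x : E), (ad g x : G) = (g : G) * x * (g : G)⁻¹ := fun _ _ => rfl
  have hadm : ∀ (g h : T) (x : E), ad (g * h) x = ad g (ad h x) := fun g h x => Subtype.ext (by
    rw [had, had, had, coe_mul, mul_inv_rev]; simp only [mul_assoc])
  have hadz : ∀ (g : T) (z : E), z ∈ center E → ad g z = z := fun g z hz => Subtype.ext (by
    rw [had]
    have h1 := mem_center_iff.1 (hZ ((hZE z).1 hz)) (g : G)
    rw [h1, mul_inv_cancel_right])
  have hphi : ∀ g : T, ∃ φ : MulAut (alternatingGroup (Fin 6)), ∀ x : E, φ (π x) = π (ad g x) := by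
    intro g
    have h1 : (center E).map (ad g : E →* E) = center E := by
      apply le_antisymm
      · rintro _ ⟨z, hz, rfl⟩
        change ad g z ∈ _
        rw [hadz g z hz]; exact hz
      · intro z hz
        exact ⟨z, hz, hadz g z hz⟩
    refine ⟨(q.symm.trans (QuotientGroup.congr (center E) (center E) (ad g) h1)).trans q, fun x => ?_⟩
    rw [hπq]
    change q (QuotientGroup.congr (center E) (center E) (ad g) h1 (q.symm (q (QuotientGroup.mk' (center E) x)))) = _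
    rw [q.symm_apply_apply]
    rfl
  choose φ hφ using hphi
  have hφm : ∀ g h : T, φ (g * h) = φ g * φ h := by
    intro g h
    refine MulEquiv.ext fun y => ?_
    obtain ⟨x, rfl⟩ := hπ y
    rw [MulAut.mul_apply, hφ, hφ, hφ, hadm]
  let Φ : T →* MulAut (alternatingGroup (Fin 6)) := MonoidHom.mk' φ hφm
  have hΦ : ∀ g, Φ g = φ g := fun _ => rfl
  -- inner automorphisms
  have hinn : ∀ g : T, Φ g ∈ NE ↔ ∃ x ∈ E, ∀ y ∈ E, (g : G) * y * (g : G)⁻¹ = x * y * x⁻¹ := by
    intro g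
    constructor
    · intro hg
      obtain ⟨σ, hσ⟩ := exists_perm hg
      rcases Int.units_eq_one_or (Perm.sign σ) with hs | hs
      · -- even
        obtain ⟨x, hx⟩ := hπ ⟨σ, Perm.mem_alternatingGroup.2 hs⟩
        refine ⟨x, x.2, ?_⟩
        have h2 : ∀ y : E, π (x⁻¹ * ad g y * x) = π y := by
          intro y
          rw [map_mul, map_mul, map_inv, hx, ← hφ g y]
          apply Subtype.ext
          rw [coe_mul, coe_mul, coe_inv, ← hΦ, hσ]
          change σ⁻¹ * (σ * (π y : Perm (Fin 6)) * σ⁻¹) * σ = _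
          group
        let β : E →* E := ((MulAut.conj x⁻¹ * ad g : MulAut E) : E →* E)
        have hβ : ∀ y, β y = x⁻¹ * ad g y * x := fun y => by
          change x⁻¹ * ad g y * x⁻¹⁻¹ = _
          rw [inv_inv]
        have h3 := eq_self_of_perfect hE β (fun y => by
          rw [← hk1, map_mul, map_inv, hβ, h2, inv_mul_cancel])
        intro y hy
        have h4 := h3 ⟨y, hy⟩
        rw [hβ] at h4
        have h5 : ad g ⟨y, hy⟩ = x * (x⁻¹ * ad g ⟨y, hy⟩ * x) * x⁻¹ := by group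
        rw [h4] at h5
        have h6 := congrArg Subtype.val h5
        exact h6
      · -- odd
        exfalso
        have hm : swap 0 1 * σ⁻¹ ∈ alternatingGroup (Fin 6) := by
          rw [Perm.mem_alternatingGroup, map_mul, map_inv, hs]
          decide
        obtain ⟨x, hx⟩ := hπ ⟨_, hm⟩
        refine no_three hE π hπ hk (MulAut.conj x * ad g) ?_ ?_ (dvd_trans (by norm_num) h6)
        · intro z hz
          rw [MulAut.mul_apply, hadz g z hz, MulAut.conj_apply, mem_center_iff.1 hz x, mul_inv_cancel_right]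
        · intro y
          rw [MulAut.mul_apply, MulAut.conj_apply, map_mul, map_mul, map_inv, hx, ← hφ g y]
          rw [coe_mul, coe_mul, coe_inv, ← hΦ, hσ]
          change swap 0 1 * σ⁻¹ * (σ * (π y : Perm (Fin 6)) * σ⁻¹) * (swap 0 1 * σ⁻¹)⁻¹ = _
          group
    · rintro ⟨x, hx, h⟩
      rw [mem_NE]
      intro y hy
      obtain ⟨y, rfl⟩ := hπ y
      rw [hΦ, hφ]
      have h1 : ad g y = ⟨x, hx⟩ * y * ⟨x, hx⟩⁻¹ := Subtype.ext (h y y.2)
      rw [h1, map_mul, map_mul, map_inv]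
      exact isThreeCycle_conj.2 hy
  -- the characters
  have hcj : ∀ (g : T) (ψ ψ' : E → ℂ), Cj (g : G) ψ ψ' ↔ ∀ x : E, ψ' (ad g x) = ψ x := by
    intro g ψ ψ'
    constructor
    · intro h x
      exact h x (ad g x) rfl
    · intro h x y hy
      have h1 : y = ad g x := Subtype.ext hy
      rw [h1]
      exact h x
  have hact : ∀ (g : T) (ψ : E → ℂ), IrrO Z l E ψ → ∃ ψ' : E → ℂ, IrrO Z l E ψ' ∧ Cj (g : G) ψ ψ' := by
    intro g ψ hψ
    refine ⟨ψ ∘ (ad g).symm, ?_, ?_⟩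
    · rw [hI] at hψ ⊢
      refine ⟨Characters.Core.isIrr_comp (ad g).symm.toMonoidHom (ad g).symm.surjective hψ.1, ?_⟩
      intro x n
      change ψ ((ad g).symm (x * n)) = ψ ((ad g).symm x) * _
      have h1 : (ad g).symm (n : E) = n := by
        rw [MulEquiv.symm_apply_eq]
        exact (hadz g n n.2).symm
      rw [map_mul, h1]
      exact hψ.2 _ n
    · rw [hcj]
      intro x
      change ψ ((ad g).symm (ad g x)) = _
      rw [MulEquiv.symm_apply_apply]
  have huniq : ∀ (g : T) (ψ ψ' ψ'' : E → ℂ), Cj (g : G) ψ ψ' → Cj (g : G) ψ ψ'' → ψ' = ψ'' := by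
    intro g ψ ψ' ψ'' h1 h2
    rw [hcj] at h1 h2
    funext y
    obtain ⟨x, rfl⟩ := (ad g).surjective y
    rw [h1, h2]
  have hcomp : ∀ (g h : T) (ψ ψ' ψ'' : E → ℂ), Cj (h : G) ψ ψ' → Cj (g : G) ψ' ψ'' → Cj ((g * h : T) : G) ψ ψ'' := by
    intro g h ψ ψ' ψ'' h1 h2
    rw [hcj] at h1 h2 ⊢
    intro x
    rw [hadm, h2, h1]
  have hfix : ∀ (g : T) (ψ : E → ℂ), Φ g ∈ NE → IsIrrCharacter E ψ → Cj (g : G) ψ ψ := by
    intro g ψ hg hψ
    obtain ⟨x, hx, h⟩ := (hinn g).1 hg
    rw [hcj]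
    intro y
    have h1 : ad g y = ⟨x, hx⟩ * y * ⟨x, hx⟩⁻¹ := Subtype.ext (h y y.2)
    rw [h1]
    exact Characters.Core.isIrr_isClassFunction hψ _ _
  -- at least four characters
  obtain ⟨I, hId⟩ : ∃ I : Set (E → ℂ), I = {ψ | IrrO Z l E ψ} := ⟨_, rfl⟩
  have hIm : ∀ ψ, ψ ∈ I ↔ IrrO Z l E ψ := fun ψ => by rw [hId]; rfl
  have h4 : 4 ≤ I.ncard := by
    have h := four_le hE q h6 hc
    have e : {χ : IrrCharacter E // Lies (center E) c (χ : E → ℂ)} ≃ I :=
      { toFun := fun χ => ⟨χ.1.1, (hIm _).2 ((hI _).2 ⟨χ.1.2, χ.2⟩)⟩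
        invFun := fun ψ => ⟨⟨ψ.1, ((hI _).1 ((hIm _).1 ψ.2)).1⟩, ((hI _).1 ((hIm _).1 ψ.2)).2⟩
        left_inv := fun χ => rfl
        right_inv := fun ψ => rfl }
    rw [Nat.card_congr e] at h
    exact h
  have hfin : I.Finite := Set.finite_of_ncard_pos (by omega)
  -- `T₀ ≠ T`
  obtain ⟨t, ht⟩ : ∃ t : T, Φ t ∉ NE := by
    by_contra hcon
    push Not at hcon
    obtain ⟨d1, d2, d3, m1, m2, m3, n12, n13, n23⟩ := (Set.two_lt_ncard_iff hfin).1 (by omega : 2 < I.ncard)
    obtain ⟨i, j, hij, g, hg, hgj⟩ := hconj ![d1, d2, d3] (by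
      intro i
      fin_cases i
      · exact (hIm _).1 m1
      · exact (hIm _).1 m2
      · exact (hIm _).1 m3)
    have hh : ∀ i : Fin 3, ![d1, d2, d3] i ∈ I := by
      intro i
      fin_cases i
      · exact m1
      · exact m2
      · exact m3
    have h1 := hfix ⟨g, hg⟩ _ (hcon _) ((hIm _).1 (hh i)).1
    have h2 := huniq ⟨g, hg⟩ _ _ _ h1 hgj
    fin_cases i <;> fin_cases j <;> simp_all
  -- the elements outside
  have hout : ∀ (g : T) (ψ ψ' ψ'' : E → ℂ), Φ g ∉ NE → IrrO Z l E ψ → Cj (g : G) ψ ψ' → Cj (t : G) ψ ψ'' → ψ' = ψ'' := by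
    intro g ψ ψ' ψ'' hg hψ h1 h2
    have h3 : Φ (t⁻¹ * g) ∈ NE := by
      rw [map_mul, map_inv]
      exact inv_mul_mem ht hg
    have h4 := hcomp t (t⁻¹ * g) ψ ψ ψ'' (hfix _ _ h3 hψ.1) h2
    rw [mul_inv_cancel_left] at h4
    exact huniq g _ _ _ h1 h4
  have hnfix : ∀ ψ : E → ℂ, IrrO Z l E ψ → ¬ Cj (t : G) ψ ψ := by
    intro d0 hd0 hfix0
    have hd0' := (hIm _).2 hd0
    have h5 : 2 < (I \ {d0}).ncard := by
      rw [Set.ncard_diff_singleton_of_mem hd0']
      omega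
    obtain ⟨d1, d2, d3, ⟨m1, k1⟩, ⟨m2, k2⟩, ⟨m3, k3⟩, n12, n13, n23⟩ :=
      (Set.two_lt_ncard_iff (hfin.subset Set.diff_subset)).1 h5
    rw [Set.mem_singleton_iff] at k1 k2 k3
    -- every element of `T` fixes `d0`
    have hall : ∀ g : T, Cj (g : G) d0 d0 := by
      intro g
      by_cases hg : Φ g ∈ NE
      · exact hfix g d0 hg hd0.1
      · obtain ⟨ψ', -, h⟩ := hact g d0 hd0
        have := hout g d0 ψ' d0 hg hd0 h hfix0
        rw [this] at h
        exact h
    have hsymm : ∀ (g : T) (ψ ψ' : E → ℂ), Cj (g : G) ψ ψ' → Cj ((g⁻¹ : T) : G) ψ' ψ := by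
      intro g ψ ψ' h
      rw [hcj] at h ⊢
      intro x
      have h1 : ad g (ad g⁻¹ x) = x := by
        rw [← hadm, mul_inv_cancel]
        apply Subtype.ext
        rw [had]
        simp
      rw [← h, h1]
    have hpair : ∀ e1 e2 : E → ℂ, e1 ∈ I → e2 ∈ I → e1 ≠ d0 → e2 ≠ d0 → e1 ≠ e2 → Cj (t : G) e1 e2 := by
      intro e1 e2 he1 he2 ne1 ne2 ne12
      obtain ⟨i, j, hij, g, hg, hgj⟩ := hconj ![d0, e1, e2] (by
        intro i
        fin_cases i
        · exact hd0
        · exact (hIm _).1 he1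
        · exact (hIm _).1 he2)
      -- the two conjugate ones are `e1` and `e2`
      have hcon : ∀ (g : T) (a b : E → ℂ), a ≠ b → IrrO Z l E a → IrrO Z l E b → Cj (g : G) a b → Cj (t : G) a b ∧
          Cj (t : G) b a := by
        intro g a b hab ha hb h
        have hgN : Φ g ∉ NE := fun hgN => hab (huniq g _ _ _ (hfix g a hgN ha.1) h)
        obtain ⟨a', -, ha'⟩ := hact t a ha
        have e1 := hout g a b a' hgN ha h ha'
        obtain ⟨b', -, hb'⟩ := hact t b hb
        have hgN' : Φ g⁻¹ ∉ NE := by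
          rw [map_inv, inv_mem_iff]
          exact hgN
        have e2 := hout g⁻¹ b a b' hgN' hb (hsymm g _ _ h) hb'
        rw [← e1] at ha'
        rw [← e2] at hb'
        exact ⟨ha', hb'⟩
      have hd0n : ∀ (g : T) (a : E → ℂ), a ≠ d0 → ¬ Cj (g : G) d0 a ∧ ¬ Cj (g : G) a d0 := by
        intro g a ha
        refine ⟨fun h => ha (huniq g _ _ _ h (hall g)), fun h => ha ?_⟩
        exact huniq g⁻¹ _ _ _ (hsymm g _ _ h) (hall g⁻¹)
      fin_cases i <;> fin_cases j
      · exact absurd rfl hij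
      · exact absurd hgj (hd0n ⟨g, hg⟩ e1 ne1).1
      · exact absurd hgj (hd0n ⟨g, hg⟩ e2 ne2).1
      · exact absurd hgj (hd0n ⟨g, hg⟩ e1 ne1).2
      · exact absurd rfl hij
      · exact (hcon ⟨g, hg⟩ e1 e2 ne12 ((hIm _).1 he1) ((hIm _).1 he2) hgj).1
      · exact absurd hgj (hd0n ⟨g, hg⟩ e2 ne2).2
      · exact (hcon ⟨g, hg⟩ e2 e1 ne12.symm ((hIm _).1 he2) ((hIm _).1 he1) hgj).2
      · exact absurd rfl hij
    have p1 := hpair d1 d2 m1 m2 k1 k2 n12
    have p2 := hpair d1 d3 m1 m3 k1 k3 n13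
    exact n23 (huniq t _ _ _ p1 p2)
  -- the two characters
  obtain ⟨a, ha⟩ : I.Nonempty := Set.nonempty_of_ncard_ne_zero (by omega)
  obtain ⟨a', ha', hta⟩ := hact t a ((hIm _).1 ha)
  have ha'I := (hIm _).2 ha'
  obtain ⟨b, ⟨hbI, hba⟩, hba'⟩ : ((I \ {a}) \ {a'}).Nonempty := by
    apply Set.nonempty_of_ncard_ne_zero
    have h5 : (I \ {a}).ncard = I.ncard - 1 := Set.ncard_diff_singleton_of_mem ha
    have h6 : (I \ {a}).ncard - 1 ≤ ((I \ {a}) \ {a'}).ncard := Set.pred_ncard_le_ncard_diff_singleton _ _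
    omega
  rw [Set.mem_singleton_iff] at hba hba'
  have hstab : ∀ (g : T) (ψ : E → ℂ), IrrO Z l E ψ → (Cj (g : G) ψ ψ ↔ Φ g ∈ NE) := by
    intro g ψ hψ
    refine ⟨fun h => ?_, fun h => hfix g ψ h hψ.1⟩
    by_contra hg
    obtain ⟨ψ', -, h'⟩ := hact t ψ hψ
    have e := hout g ψ ψ ψ' hg hψ h h'
    rw [← e] at h'
    exact hnfix ψ hψ h'
  have hmem : ∀ (g : G) (hg : g ∈ T), g ∈ (NE.comap Φ).map T.subtype ↔ Φ ⟨g, hg⟩ ∈ NE := by
    intro g hg
    constructor
    · rintro ⟨g', h, rfl⟩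
      exact h
    · intro h
      exact ⟨⟨g, hg⟩, h, rfl⟩
  refine ⟨(NE.comap Φ).map T.subtype, a, b, ?_, ?_, ?_, (hIm _).1 ha, (hIm _).1 hbI, ?_, ?_, ?_⟩
  · rintro _ ⟨g, -, rfl⟩
    exact g.2
  · have h1 : ((NE.comap Φ).map T.subtype).subgroupOf T = NE.comap Φ := by
      ext x
      rw [mem_subgroupOf, hmem _ x.2]
      rfl
    rw [relIndex, h1, index_eq_two_iff_exists_notMem_and]
    refine ⟨t, ht, fun b => ?_⟩
    by_cases hb : Φ b ∈ NE
    · right; exact hb
    · left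
      change Φ (b * t) ∈ NE
      rw [map_mul]
      have := inv_mul_mem (α := (Φ b)⁻¹) (β := Φ t) (fun h => hb (inv_mem_iff.1 h)) ht
      rwa [inv_inv] at this
  · intro g hg
    rw [hmem g hg]
    exact hinn ⟨g, hg⟩
  · intro g hg
    rw [hmem g hg]
    exact hstab ⟨g, hg⟩ a ((hIm _).1 ha)
  · intro g hg
    rw [hmem g hg]
    exact hstab ⟨g, hg⟩ b ((hIm _).1 hbI)
  · intro g hg h
    by_cases hgN : Φ ⟨g, hg⟩ ∈ NE
    · exact hba (huniq ⟨g, hg⟩ _ _ _ h (hfix ⟨g, hg⟩ a hgN ((hIm _).1 ha).1))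
    · exact hba' (hout ⟨g, hg⟩ a b a' hgN ((hIm _).1 ha) h hta)

end Cfsg.Agent.H337.RIM
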